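import Cfsg.Agent.Lib.Suborbit3.Four.Perm
import Cfsg.Agent.Lib.Suborbit3.SDLocal.Frame
import Cfsg.Agent.Lib.ClassicalGroups.PermModel
import Cfsg.Agent.Lib.Transfer.Basic
import Cfsg.Agent.S3224
import Cfsg.Agent.S2916

/-!
# A group with an embedded `S₄` whose four-group is self-centralizing
-/

set_option autoImplicit false
set_option linter.style.haveILetI false
set_option linter.unusedSectionVars false

namespace CfsgLib.Suborbit3.Four

open Subgroup Equiv

variable {T : Type*} [Group T] [Finite T]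

/-- An embedding of `S₄` such that the four-group is its own centralizer. -/
structure Local (T : Type*) [Group T] where
  /-- the embedding -/
  j : Perm (Fin 4) →* T
  inj : Function.Injective j
  cent : ∀ x : T, x * j uP = j uP * x → x * j vP = j vP * x → ∃ a, j a = x

namespace Local

variable (E : Local T)

/-- The image of the embedded group. -/
def H : Subgroup T := E.j.range

/-- The image of the dihedral group of order eight. -/
def L : Subgroup T := D8.map E.j

/-- The four-group. -/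
def V : Subgroup T := V4.map E.j

theorem card_H : Nat.card E.H = 24 := by
  rw [H, ← Nat.card_congr (MonoidHom.ofInjective E.inj).toEquiv, card_perm]

theorem card_L : Nat.card E.L = 8 := (card_map_of_injective E.inj).trans card_D8

theorem card_V : Nat.card E.V = 4 := (card_map_of_injective E.inj).trans card_V4

theorem isPGroup_L : IsPGroup 2 E.L := isPGroup_D8.map E.j

omit [Finite T] in
theorem centralizer_uv : centralizer ({E.j uP, E.j vP} : Set T) = E.V := by
  ext x
  simp only [mem_centralizer_iff, Set.mem_insert_iff, Set.mem_singleton_iff, forall_eq_or_imp,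
    forall_eq, V, mem_map]
  constructor
  · rintro ⟨h1, h2⟩
    obtain ⟨a, rfl⟩ := E.cent x h1.symm h2.symm
    exact ⟨a, mem_V4.2 ⟨E.inj (by rw [map_mul, map_mul, h1]),
      E.inj (by rw [map_mul, map_mul, h2])⟩, rfl⟩
  · rintro ⟨a, ha, rfl⟩
    rw [← map_mul, ← map_mul, ← map_mul, ← map_mul]
    exact ⟨congrArg E.j (mem_V4.1 ha).1.symm, congrArg E.j (mem_V4.1 ha).2.symm⟩

omit [Finite T] in
theorem centralizer_V : centralizer (E.V : Set T) = E.V := by
  refine le_antisymm (fun x hx => ?_) fun x hx => ?_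
  · rw [← E.centralizer_uv]
    refine centralizer_le ?_ hx
    rintro _ (rfl | rfl)
    · exact ⟨uP, mem_V4.2 ⟨rfl, uP_facts.2.2.2.2.2.1⟩, rfl⟩
    · exact ⟨vP, mem_V4.2 ⟨uP_facts.2.2.2.2.2.1.symm, rfl⟩, rfl⟩
  · obtain ⟨a, ha, rfl⟩ := hx
    refine mem_centralizer_iff.2 ?_
    rintro _ ⟨b, hb, rfl⟩
    rw [← map_mul, ← map_mul]
    refine congrArg E.j ?_
    rcases V4_cases b (mem_V4.1 hb).1 (mem_V4.1 hb).2 with rfl | rfl | rfl | rfl
    · simp
    · exact (mem_V4.1 ha).1.symm
    · exact (mem_V4.1 ha).2.symm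
    · rw [mul_assoc, ← (mem_V4.1 ha).2, ← mul_assoc, ← (mem_V4.1 ha).1, mul_assoc]

theorem exists_sylow : ∃ S : Sylow 2 T, E.L ≤ S := E.isPGroup_L.exists_le_sylow

variable {S : Sylow 2 T} (hS : E.L ≤ (S : Subgroup T))
include hS

omit [Finite T] in
theorem mem_S {a : Perm (Fin 4)} (ha : a ∈ D8) : E.j a ∈ (S : Subgroup T) :=
  hS (mem_map_of_mem _ ha)

omit [Finite T] in
theorem center_cases {s : (S : Subgroup T)} (h : s ∈ center (S : Subgroup T)) :
    (s : T) = 1 ∨ (s : T) = E.j uP := by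
  have hc : ∀ a ∈ D8, (s : T) * E.j a = E.j a * s := fun a ha =>
    (congrArg Subtype.val (mem_center_iff.1 h ⟨_, E.mem_S hS ha⟩)).symm
  obtain ⟨a, ha⟩ := E.cent _ (hc _ uP_mem) (hc _ vP_mem)
  have h' : ∀ b ∈ D8, a * b = b * a := fun b hb => E.inj (by
    rw [map_mul, map_mul, ha]; exact hc b hb)
  rcases center_D8 a (h' _ uP_mem) (h' _ vP_mem) (h' _ sP_mem) with rfl | rfl
  · exact Or.inl (by rw [← ha, map_one])
  · exact Or.inr ha.symm

theorem uP_central : (⟨E.j uP, E.mem_S hS uP_mem⟩ : (S : Subgroup T)) ∈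
    center (S : Subgroup T) := by
  haveI : Fact (Nat.Prime 2) := ⟨Nat.prime_two⟩
  haveI : Nontrivial (S : Subgroup T) := by
    rw [← Finite.one_lt_card_iff_nontrivial]
    exact lt_of_lt_of_le (by rw [E.card_L]; norm_num) (card_le_of_le hS)
  haveI := S.isPGroup'.center_nontrivial
  obtain ⟨⟨s, hs⟩, hs1⟩ := exists_ne (1 : center (S : Subgroup T))
  rcases E.center_cases hS hs with e | e
  · exact absurd (Subtype.ext (Subtype.ext e)) hs1
  · rwa [show (⟨E.j uP, E.mem_S hS uP_mem⟩ : (S : Subgroup T)) = s from Subtype.ext e.symm]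

theorem commute_uP {s : T} (hs : s ∈ (S : Subgroup T)) : s * E.j uP = E.j uP * s :=
  congrArg Subtype.val (mem_center_iff.1 (E.uP_central hS) ⟨s, hs⟩)

theorem card_cent_v :
    Nat.card (centralizer ({⟨E.j vP, E.mem_S hS vP_mem⟩} : Set (S : Subgroup T))) = 4 := by
  have he : centralizer ({⟨E.j vP, E.mem_S hS vP_mem⟩} : Set (S : Subgroup T)) =
      E.V.subgroupOf (S : Subgroup T) := by
    ext s
    rw [mem_centralizer_singleton_iff, mem_subgroupOf, ← E.centralizer_uv]
    simp only [mem_centralizer_iff, Set.mem_insert_iff, Set.mem_singleton_iff, forall_eq_or_imp,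
      forall_eq, Subtype.ext_iff, Subgroup.coe_mul]
    exact ⟨fun h => ⟨(E.commute_uP hS s.2).symm, h.symm⟩, fun h => h.2.symm⟩
  rw [he, Nat.card_congr (subgroupOfEquivOfLe (show E.V ≤ (S : Subgroup T) from (map_mono V4_le).trans hS)).toEquiv, E.card_V]

/-- The Sylow subgroup is dihedral or quasi-dihedral. -/
theorem dihedral_or_sd :
    (∃ n, 4 ≤ n ∧ Nonempty ((S : Subgroup T) ≃* DihedralGroup n)) ∨
      ∃ (r : ℕ) (x y : (S : Subgroup T)), CfsgLib.TwoGroups.SD.SD (S : Subgroup T) r x y := by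
  haveI : Fact (Nat.Prime 2) := ⟨Nat.prime_two⟩
  have h8 : 8 ≤ Nat.card (S : Subgroup T) := E.card_L.symm.le.trans (card_le_of_le hS)
  have ho : orderOf (⟨E.j vP, E.mem_S hS vP_mem⟩ : (S : Subgroup T)) = 2 := by
    rw [orderOf_mk, orderOf_injective E.j E.inj]
    exact orderOf_eq_prime (by rw [pow_two]; exact uP_facts.2.2.1) uP_facts.2.2.2.1
  rcases Cfsg.Agent.S3224.result S.isPGroup' _ ho (E.card_cent_v hS) with ⟨n, ⟨e⟩⟩ | hQ | h4
  · refine Or.inl ⟨n, ?_, ⟨e⟩⟩
    rw [Nat.card_congr e.toEquiv, DihedralGroup.nat_card] at h8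
    omega
  · exact Or.inr (CfsgLib.TwoGroups.SD.exists_sd hQ)
  · omega

variable [IsSimpleGroup T]

/-- Quasi-dihedral Sylow subgroups lead to `PSL(3, 3)` or `M₁₁`. -/
theorem sd_case {r : ℕ} {x y : (S : Subgroup T)}
    (h : CfsgLib.TwoGroups.SD.SD (S : Subgroup T) r x y) :
    Nonempty (T ≃* Matrix.ProjectiveSpecialLinearGroup (Fin 3) (ZMod 3)) ∨
      Cfsg.Spor.IsoM11 T := by
  classical
  haveI : Fact (Nat.Prime 2) := ⟨Nat.prime_two⟩
  have hJu : SDLocal.J r x = E.j uP := by
    refine (E.center_cases hS ?_).resolve_left ?_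
    · rw [CfsgLib.TwoGroups.SD.center_eq h]; exact mem_zpowers _
    · exact SDLocal.J_ne_one h
  set v : (S : Subgroup T) := ⟨E.j vP, E.mem_S hS vP_mem⟩ with hv
  have ho : orderOf v = 2 := by
    rw [hv, orderOf_mk, orderOf_injective E.j E.inj]
    exact orderOf_eq_prime (by rw [pow_two]; exact uP_facts.2.2.1) uP_facts.2.2.2.1
  obtain ⟨a, hae, hva⟩ := (CfsgLib.TwoGroups.SD.involution_cases h ho).resolve_left fun e => by
    have e' : E.j vP = SDLocal.J r x := congrArg Subtype.val e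
    exact uP_facts.2.2.2.2.1 (E.inj (e'.trans hJu)).symm
  obtain ⟨c, hc⟩ := CfsgLib.TwoGroups.SD.exists_conj_xy h (a := a) (b := 0)
    (by simpa using even_iff_two_dvd.mp hae.neg)
  rw [zpow_zero, one_mul, ← hva] at hc
  set t : T := ((x ^ c : (S : Subgroup T)) : T)
  have hty : t * E.j vP * t⁻¹ = (y : T) := congrArg Subtype.val hc
  have htu : t * E.j uP * t⁻¹ = E.j uP := by
    rw [E.commute_uP hS (x ^ c).2, mul_inv_cancel_right]
  have hVc : Nat.card (centralizer ({SDLocal.J r x, (y : T)} : Set T)) = 4 := by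
    rw [hJu, ← hty]
    nth_rewrite 1 [← htu]
    refine Eq.trans ?_ E.card_V
    rw [← E.centralizer_uv]
    refine (Nat.card_congr ((MulAut.conj t).toEquiv.subtypeEquiv fun s => ?_)).symm
    simp only [mem_centralizer_iff, Set.mem_insert_iff, Set.mem_singleton_iff, forall_eq_or_imp,
      forall_eq, MulEquiv.toEquiv_eq_coe, EquivLike.coe_coe, MulAut.conj_apply]
    refine and_congr ?_ ?_
    all_goals
      rw [show ∀ a b : T, t * a * t⁻¹ * (t * b * t⁻¹) = t * (a * b) * t⁻¹ from
        fun a b => by group, show ∀ a b : T, t * a * t⁻¹ * (t * b * t⁻¹) = t * (a * b) * t⁻¹ from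
        fun a b => by group, mul_left_inj, mul_right_inj]
  obtain ⟨-, ⟨e⟩⟩ := SDLocal.nonempty_equiv_gl23 h hVc
  have hres : Cfsg.pResidual 2 T = ⊤ := by
    haveI := CfsgLib.Transfer.pResidual_normal (G := T) (p := 2)
    refine (IsSimpleGroup.eq_bot_or_eq_top_of_normal _ this).resolve_left fun hb => ?_
    have hp := CfsgLib.Transfer.isPGroup_quotient_of_pResidual_le (p := 2) (⊥ : Subgroup T) hb.le
    have hT : IsPGroup 2 T := hp.of_equiv QuotientGroup.quotientBot
    obtain ⟨k, hk⟩ := IsPGroup.iff_card.1 (hT.to_subgroup E.H)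
    rw [E.card_H] at hk
    have h3 : 3 ∣ 2 ^ k := hk ▸ (by norm_num)
    exact absurd (Nat.Prime.dvd_of_dvd_pow Nat.prime_three h3) (by norm_num)
  rcases Cfsg.Agent.S2916.result hres _ (SDLocal.orderOf_J' h) ⟨e⟩ with ⟨F, _, _, hF, ⟨f⟩⟩ | hM
  · left
    haveI : Fact (Nat.Prime 3) := ⟨Nat.prime_three⟩
    exact ⟨f.trans (CfsgLib.ClassicalGroups.pslFieldCongr
      (ZMod.ringEquivOfPrime F Nat.prime_three hF).symm)⟩
  · exact Or.inr hM

end Local

end CfsgLib.Suborbit3.Four
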