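import Cfsg.Agent.Lib.Suborbit3.Concl
import Cfsg.Agent.Lib.Suborbit3.Four.Local
import Cfsg.Agent.S0065

/-!
# Stabilizer `S₄`: the group is simple of order divisible by 16
-/

set_option autoImplicit false
set_option linter.style.haveILetI false
set_option linter.unusedSectionVars false

namespace CfsgLib.Suborbit3

open Subgroup Equiv CfsgLib.Recognition.SubdegThree

variable {G : Type*} [Group G] [Finite G] {H L : Subgroup G} {g : G}

theorem Four.Local.uP_mem_normal {T : Type*} [Group T] [Finite T] (E : Four.Local T)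
    {N : Subgroup T} [N.Normal] (h2 : ∃ w ∈ N, orderOf w = 2) : E.j Four.uP ∈ N := by
  haveI : Fact (Nat.Prime 2) := ⟨Nat.prime_two⟩
  obtain ⟨w, hw, ho⟩ := h2
  obtain ⟨S, hS⟩ := E.exists_sylow
  obtain ⟨S', hS'⟩ := (IsPGroup.of_card (n := 1) (by rw [Nat.card_zpowers, ho, pow_one]) :
    IsPGroup 2 (zpowers w)).exists_le_sylow
  obtain ⟨c, hc⟩ := MulAction.exists_smul_eq T S' S
  have hwS : c * w * c⁻¹ ∈ (S : Subgroup T) := by
    rw [← hc, Sylow.coe_subgroup_smul]
    exact ⟨w, hS' (mem_zpowers w), rfl⟩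
  have hne : N.subgroupOf (S : Subgroup T) ≠ ⊥ := fun e => by
    have : (⟨_, hwS⟩ : (S : Subgroup T)) ∈ N.subgroupOf (S : Subgroup T) :=
      (Normal.conj_mem inferInstance w hw c : _)
    rw [e, mem_bot] at this
    rw [conj_eq_one_iff.1 (congrArg Subtype.val this), orderOf_one] at ho
    omega
  haveI : Group.IsNilpotent (S : Subgroup T) := S.isPGroup'.isNilpotent
  obtain ⟨⟨s, hs⟩, hsne⟩ := ne_bot_iff_exists_ne_one.1
    (Cfsg.Agent.S0065.result (N.subgroupOf (S : Subgroup T)) hne)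
  rcases E.center_cases hS hs.2 with e | e
  · exact absurd (Subtype.ext (Subtype.ext e)) hsne
  · exact e ▸ hs.1

/-- A parametrisation of `H` by `S₄` carrying the standard Sylow subgroup to `L`. -/
theorem Hyp.exists_local (h : Hyp H L g) (J : Model H (Perm (Fin 4))) :
    ∃ E : Four.Local G, E.H = H ∧ E.L = L := by
  have hK : Nat.card (L.comap J.j) = 8 := by
    have hm : (L.comap J.j).map J.j = L := by
      rw [map_comap_eq, J.range, inf_eq_right.2 h.data.hLH]
    have h1 := h.card_H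
    rw [J.card_eq, Four.card_perm] at h1
    rw [← J.card_map, hm]
    omega
  obtain ⟨a, ha⟩ := Four.exists_sylow_conj hK
  have hj : Function.Injective (J.j.comp (MulAut.conj a).toMonoidHom) :=
    J.inj.comp (MulAut.conj a).injective
  have hr : (J.j.comp (MulAut.conj a).toMonoidHom).range = H := by
    rw [MonoidHom.range_comp, MonoidHom.range_eq_top.2 (MulAut.conj a).surjective,
      ← MonoidHom.range_eq_map, J.range]
  let J' : Model H (Perm (Fin 4)) := ⟨_, hj, hr⟩
  have hne : Four.V4 ≠ ⊥ := by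
    intro e
    have h4 := Four.card_V4
    rw [e, card_bot] at h4
    omega
  refine ⟨⟨J'.j, hj, fun x h1 h2 => J'.exists_eq
    (h.normalizer_le (J'.map_le _) (J'.map_ne_bot hne) (J'.le_normalizer_map Four.V4) ?_)⟩, hr, ?_⟩
  · refine mem_centralizer_iff.2 ?_
    rintro _ ⟨b, hb, rfl⟩
    rcases Four.V4_cases b (Four.mem_V4.1 hb).1 (Four.mem_V4.1 hb).2 with rfl | rfl | rfl | rfl
    · simp
    · exact h1.symm
    · exact h2.symm
    · rw [map_mul, mul_assoc, ← h2, ← mul_assoc, ← h1, mul_assoc]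
  · show Four.D8.map (J.j.comp (MulAut.conj a).toMonoidHom) = L
    rw [← map_map, ha, map_comap_eq, J.range, inf_eq_right.2 h.data.hLH]

variable (h : Hyp H L g) {E : Four.Local G} (hEH : E.H = H) (hEL : E.L = L)
include h hEH

theorem Hyp.normalizer_V : normalizer (E.V : Set G) = H := by
  let J : Model H (Perm (Fin 4)) := ⟨E.j, E.inj, hEH⟩
  refine h.normalizer_eq (J.map_le _) (J.map_ne_bot ?_) (J.le_normalizer_map Four.V4)
  intro e
  have h4 := Four.card_V4
  rw [e, card_bot] at h4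
  omega

theorem Hyp.centralizer_V_le : centralizer (E.V : Set G) ≤ H :=
  (centralizer_le_normalizer _).trans (h.normalizer_V hEH).le

include hEL

theorem Hyp.fix_uP {b : G} (hb : b ∈ normalizer (L : Set G)) :
    b * E.j Four.uP * b⁻¹ = E.j Four.uP := by
  rw [← hEL] at hb
  obtain ⟨a, ha, e⟩ := (mem_normalizer_iff.1 hb _).1 (mem_map_of_mem E.j Four.uP_mem)
  have hc : ∀ c ∈ Four.D8, a * c = c * a := by
    intro c hc
    obtain ⟨c', hc', e'⟩ := (mem_normalizer_iff.1 hb (b⁻¹ * E.j c * b)).2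
      (by rw [show b * (b⁻¹ * E.j c * b) * b⁻¹ = E.j c by group]; exact mem_map_of_mem E.j hc)
    refine E.inj ?_
    rw [map_mul, map_mul, e, show E.j c = b * E.j c' * b⁻¹ by rw [e']; group, conj_mul, conj_mul,
      ← map_mul, ← map_mul, Four.mem_D8.1 hc']
  rcases Four.center_D8 a (hc _ Four.uP_mem) (hc _ Four.vP_mem) (hc _ Four.sP_mem) with rfl | rfl
  · rw [map_one] at e
    exact absurd (E.inj ((conj_eq_one_iff.1 e.symm).trans E.j.map_one.symm)) Four.uP_facts.2.1
  · exact e.symm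

theorem Hyp.conj_inv_mem {b : G} (hb : b ∈ normalizer (L : Set G)) {a : Perm (Fin 4)}
    (ha : a ∈ Four.D8) (h2 : a * a = 1) (h1 : a ≠ 1) (hu : a ≠ Four.uP) :
    b * E.j a * b⁻¹ ∈ E.V ∨ b * E.j a * b⁻¹ = E.j Four.sP ∨
      b * E.j a * b⁻¹ = E.j (Four.uP * Four.sP) := by
  have hb' := hb
  rw [← hEL] at hb'
  obtain ⟨c, hc, e⟩ := (mem_normalizer_iff.1 hb' _).1 (mem_map_of_mem E.j ha)
  have hc2 : c * c = 1 := E.inj (by rw [map_mul, e, conj_mul, ← map_mul, h2]; simp)
  have hc1 : c ≠ 1 := fun e' => by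
    rw [e', map_one] at e
    exact h1 (E.inj ((conj_eq_one_iff.1 e.symm).trans E.j.map_one.symm))
  have hcu : c ≠ Four.uP := fun e' => by
    rw [e', ← h.fix_uP hEH hEL hb] at e
    exact hu (E.inj (mul_left_cancel (mul_right_cancel e))).symm
  rcases Four.D8_inv_cases c (Four.mem_D8.1 hc) hc2 hc1 hcu with rfl | rfl | rfl | rfl
  · exact Or.inl (e ▸ mem_map_of_mem E.j (Four.mem_V4.2 ⟨Four.uP_facts.2.2.2.2.2.1.symm, rfl⟩))
  · refine Or.inl (e ▸ mem_map_of_mem E.j ?_)
    exact Four.mem_V4.2 (by decide +kernel)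
  · exact Or.inr (Or.inl e.symm)
  · exact Or.inr (Or.inr e.symm)

theorem Hyp.mem_H_of_v {b : G} (hb : b ∈ normalizer (L : Set G))
    (hv : b * E.j Four.vP * b⁻¹ ∈ E.V) : b ∈ H := by
  rw [← h.normalizer_V hEH]
  refine mem_normalizer_of_conj ?_
  have hu : b * E.j Four.uP * b⁻¹ ∈ E.V := by
    rw [h.fix_uP hEH hEL hb]
    exact mem_map_of_mem E.j (Four.mem_V4.2 ⟨rfl, Four.uP_facts.2.2.2.2.2.1⟩)
  rintro _ ⟨c, hc, rfl⟩
  rcases Four.V4_cases c (Four.mem_V4.1 hc).1 (Four.mem_V4.1 hc).2 with rfl | rfl | rfl | rfl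
  · simpa using one_mem E.V
  · exact hu
  · exact hv
  · rw [map_mul, ← conj_mul]
    exact mul_mem hu hv

theorem Hyp.swap_of_not_mem {b : G} (hb : b ∈ normalizer (L : Set G)) (hbH : b ∉ H) :
    (b * E.j Four.vP * b⁻¹ = E.j Four.sP ∨ b * E.j Four.vP * b⁻¹ = E.j (Four.uP * Four.sP)) ∧
      b * E.j Four.sP * b⁻¹ ∈ E.V := by
  have f := Four.uP_facts
  have h1 := (h.conj_inv_mem hEH hEL hb Four.vP_mem f.2.2.1 f.2.2.2.1 f.2.2.2.2.1.symm).resolve_left
    fun hv => hbH (h.mem_H_of_v hEH hEL hb hv)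
  refine ⟨h1, (h.conj_inv_mem hEH hEL hb Four.sP_mem f.2.2.2.2.2.2.1 (by decide) (by decide)
    ).resolve_right fun h2 => ?_⟩
  obtain ⟨a, ha, ea⟩ : ∃ a, (a = 1 ∨ a = Four.uP) ∧
      b * E.j (Four.vP * Four.sP) * b⁻¹ = E.j a := by
    rw [map_mul, ← conj_mul]
    rcases h1 with e | e <;> rcases h2 with e' | e' <;> rw [e, e', ← map_mul]
    all_goals exact ⟨_, by decide +kernel, rfl⟩
  have hh : E.j (Four.vP * Four.sP) = E.j a := by
    rcases ha with rfl | rfl
    · rw [map_one] at ea ⊢; exact conj_eq_one_iff.1 ea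
    · exact mul_left_cancel (mul_right_cancel (ea.trans (h.fix_uP hEH hEL hb).symm))
  rcases ha with rfl | rfl <;> exact absurd (E.inj hh) (by decide +kernel)

theorem Hyp.normalizer_L_inf : normalizer (L : Set G) ⊓ H = L := by
  rcases h.data.eq_of_lt (le_inf le_normalizer h.data.hLH)
    (inf_le_right : normalizer (L : Set G) ⊓ H ≤ H) with e | e
  · exact e
  · exfalso
    refine h.data.hgH ?_
    rw [← h.normalizer_eq h.data.hLH ?_ (inf_eq_right.1 e)]
    · exact h.data.hg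
    · intro e'
      have h8 := E.card_L
      rw [hEL, e', card_bot] at h8
      omega

theorem Hyp.card_normalizer_L : Nat.card (normalizer (L : Set G)) = 16 := by
  have hidx : (L.subgroupOf (normalizer (L : Set G))).index = 2 := by
    refine index_eq_two_iff.2 ⟨⟨g, h.data.hg⟩, fun b => ?_⟩
    by_cases hb : (b : G) ∈ L
    · refine Or.inr ⟨hb, fun hbg => h.data.hgH (h.data.hLH ?_)⟩
      exact (L.mul_mem_cancel_left hb).1 hbg
    · refine Or.inl ⟨?_, hb⟩
      have hbH : (b : G) ∉ H := fun hbH => hb ((h.normalizer_L_inf hEH hEL).le ⟨b.2, hbH⟩)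
      obtain ⟨hg1, -⟩ := h.swap_of_not_mem hEH hEL h.data.hg h.data.hgH
      obtain ⟨-, hb2⟩ := h.swap_of_not_mem hEH hEL b.2 hbH
      refine (h.normalizer_L_inf hEH hEL).le
        ⟨mul_mem b.2 h.data.hg, h.mem_H_of_v hEH hEL (mul_mem b.2 h.data.hg) ?_⟩
      show (b : G) * g * E.j Four.vP * ((b : G) * g)⁻¹ ∈ E.V
      rw [show (b : G) * g * E.j Four.vP * ((b : G) * g)⁻¹ =
        b * (g * E.j Four.vP * g⁻¹) * (b : G)⁻¹ by group]
      rcases hg1 with e | e <;> rw [e]
      · exact hb2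
      · rw [map_mul, ← conj_mul, h.fix_uP hEH hEL b.2]
        exact mul_mem (mem_map_of_mem E.j (Four.mem_V4.2 ⟨rfl, Four.uP_facts.2.2.2.2.2.1⟩)) hb2
  have h1 := (L.subgroupOf (normalizer (L : Set G))).card_mul_index
  rw [hidx, Nat.card_congr (subgroupOfEquivOfLe le_normalizer).toEquiv, ← hEL, E.card_L] at h1
  rw [← hEL]
  omega

theorem Hyp.sixteen_dvd : 16 ∣ Nat.card G :=
  h.card_normalizer_L hEH hEL ▸ card_subgroup_dvd_card _

/-- The group is simple. -/
theorem Hyp.four_simple : IsSimpleGroup G := by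
  haveI : Nontrivial G := ⟨⟨g, 1, fun e => h.data.hgH (e ▸ one_mem H)⟩⟩
  refine ⟨fun N hN => ?_⟩
  haveI := hN
  by_contra hc
  push Not at hc
  obtain ⟨hne, hnt⟩ := hc
  have hu := E.uP_mem_normal (h.exists_involution_mem hne)
  have hv : E.j Four.vP ∈ N := by
    obtain ⟨a, ha⟩ := Four.uP_conj_vP
    rw [← ha, map_mul, map_mul, map_inv]
    exact hN.conj_mem _ hu _
  have hs : E.j Four.sP ∈ N := by
    have hgv := hN.conj_mem _ hv g
    rcases (h.swap_of_not_mem hEH hEL h.data.hg h.data.hgH).1 with e | e <;> rw [e] at hgv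
    · exact hgv
    · rw [map_mul] at hgv
      exact (N.mul_mem_cancel_left hu).1 hgv
  haveI := hN.comap E.j
  have htop : N.comap E.j = ⊤ := Four.eq_top_of_sP hs
  refine hnt ?_
  rw [← h.sup_normal_eq_top hne, sup_eq_left.2]
  rw [← hEH]
  rintro _ ⟨a, rfl⟩
  exact htop.ge (mem_top a)

end CfsgLib.Suborbit3
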