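import Cfsg.Agent.Lib.Suborbit3.Four.Local
import Cfsg.Agent.Lib.Suborbit3.PSLRecog
import Cfsg.Agent.Lib.GWCons.RankOneCover
import Cfsg.Agent.Lib.PSL2.MaxClassify

/-!
# The case of a dihedral Sylow subgroup
-/

set_option autoImplicit false
set_option linter.style.haveILetI false
set_option linter.unusedSectionVars false

namespace CfsgLib.Suborbit3.Four

open Subgroup Equiv CfsgLib.GWCons.RankOneCover

universe u

theorem sixteen_not_dvd_alt_seven : ¬ 16 ∣ Nat.card (alternatingGroup (Fin 7)) := by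
  intro h
  have h2 := two_mul_nat_card_alternatingGroup (α := Fin 7)
  rw [Nat.card_perm, Nat.card_eq_fintype_card (α := Fin 7), Fintype.card_fin,
    show Nat.factorial 7 = 5040 by decide] at h2
  omega

/-- A simple group with dihedral Sylow subgroups of order divisible by 16 is `PSL(2, q)`. -/
theorem exists_psl (hGW : DihedralClassification.{u}) {T : Type u} [Group T] [Finite T]
    [IsSimpleGroup T] (hne : ∃ a b : T, a * b ≠ b * a) (h16 : 16 ∣ Nat.card T) (S : Sylow 2 T)
    {n : ℕ} (hn : 2 ≤ n) (e : (S : Subgroup T) ≃* DihedralGroup n) :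
    ∃ (F : Type) (_ : Field F) (_ : Fintype F), Odd (Fintype.card F) ∧ 3 < Fintype.card F ∧
      Nonempty (T ≃* Matrix.ProjectiveSpecialLinearGroup (Fin 2) F) := by
  haveI : Fact (Nat.Prime 2) := ⟨Nat.prime_two⟩
  haveI : Group.IsPerfect T := ⟨by
    refine (IsSimpleGroup.eq_bot_or_eq_top_of_normal (commutator T) inferInstance).resolve_left
      fun hb => ?_
    obtain ⟨a, b, hab⟩ := hne
    refine hab (commutatorElement_eq_one_iff_mul_comm.1 ?_)
    rw [← mem_bot, ← hb, commutator_def]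
    exact commutator_mem_commutator (mem_top a) (mem_top b)⟩
  have hb : Cfsg.oddCore T = ⊥ := by
    have hN : (Cfsg.oddCore T).Normal := inferInstanceAs (Cfsg.pPrimeCore 2 T).Normal
    refine hN.eq_bot_or_eq_top.resolve_right fun ht => ?_
    have hc : Nat.Coprime 2 (Nat.card (Cfsg.oddCore T)) := CfsgLib.PCore.pPrimeCore_coprime.symm
    rw [ht, card_top] at hc
    have h2 := (Nat.coprime_two_left.1 hc).of_dvd_nat h16
    exact absurd h2 (by decide)
  let q : T ⧸ Cfsg.oddCore T ≃* T :=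
    (QuotientGroup.quotientMulEquivOfEq hb).trans QuotientGroup.quotientBot
  rcases hGW T S n hn ⟨e⟩ with ⟨F, i1, i2, ho, h3, ⟨f⟩⟩ | ⟨⟨f⟩⟩
  · exact ⟨F, i1, i2, ho, h3, ⟨q.symm.trans f⟩⟩
  · exact absurd (Nat.card_congr (q.symm.trans f).toEquiv ▸ h16) sixteen_not_dvd_alt_seven

theorem dihedral_orderOf {k : ℕ} [NeZero k] :
    orderOf (DihedralGroup.r (1 : ZMod k)) = k := DihedralGroup.orderOf_r_one

theorem not_dihedral {M : Type*} [Group M] (e : Perm (Fin 4) ≃* M) {k : ℕ}
    (f : M ≃* DihedralGroup k) : False := by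
  have hc : 2 * k = 24 := by
    rw [← DihedralGroup.nat_card, ← Nat.card_congr (e.trans f).toEquiv, card_perm]
  obtain rfl : k = 12 := by omega
  obtain ⟨a, ha⟩ := (e.trans f).surjective (DihedralGroup.r (1 : ZMod 12))
  have ho : orderOf a = 12 := by
    rw [← (e.trans f).orderOf_eq, ha, DihedralGroup.orderOf_r_one]
  rcases no_order_twelve a with h | h
  · have := orderOf_dvd_of_pow_eq_one (show a ^ 3 = 1 by simpa [pow_succ] using h)
    rw [ho] at this
    norm_num at this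
  · have := orderOf_dvd_of_pow_eq_one (show a ^ 4 = 1 by
      rw [pow_succ, pow_succ, pow_two, mul_assoc]; exact h)
    rw [ho] at this
    norm_num at this

theorem mod_sixteen {p : ℕ} (h8 : p % 8 = 1 ∨ p % 8 = 7)
    (h : 32 ∣ (p + 1) * (p * (p - 1))) : p % 16 = 1 ∨ p % 16 = 15 := by
  obtain ⟨r, hr⟩ : ∃ r, r = p % 32 := ⟨_, rfl⟩
  by_contra hc
  push Not at hc
  have hr' : r = 7 ∨ r = 9 ∨ r = 23 ∨ r = 25 := by omega
  have h1 : (p + 1) % 32 = r + 1 := by omega
  have h2 : (p - 1) % 32 = r - 1 := by omega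
  have h3 := Nat.mod_eq_zero_of_dvd h
  rw [Nat.mul_mod, Nat.mul_mod p, h1, h2, ← hr] at h3
  rcases hr' with rfl | rfl | rfl | rfl <;> norm_num at h3

/-- `PSL(2, q)` with a maximal `S₄` and order divisible by 16. -/
theorem psl_of_coatom {T : Type*} [Group T] [Finite T] {H : Subgroup T} (hH : IsCoatom H)
    (eH : Perm (Fin 4) ≃* H) (h16 : 16 ∣ Nat.card T) {F : Type} [Field F] [Fintype F]
    (hodd : Odd (Fintype.card F)) (h3 : 3 < Fintype.card F)
    (e : T ≃* Matrix.ProjectiveSpecialLinearGroup (Fin 2) F) :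
    ∃ p : ℕ, p.Prime ∧ (p % 16 = 1 ∨ p % 16 = 15) ∧
      Nonempty (T ≃* Matrix.ProjectiveSpecialLinearGroup (Fin 2) (ZMod p)) := by
  classical
  obtain ⟨p, hp⟩ := CharP.exists F
  haveI : Fact p.Prime := ⟨CharP.char_is_prime F p⟩
  have h5 : 5 ≤ Fintype.card F := by
    rcases hodd with ⟨a, ha⟩
    omega
  let M : Subgroup (Matrix.ProjectiveSpecialLinearGroup (Fin 2) F) := H.map e.toMonoidHom
  have hM : IsCoatom M := (e.mapSubgroup.isCoatom_iff H).2 hH
  let eM : Perm (Fin 4) ≃* M := eH.trans (H.equivMapOfInjective e.toMonoidHom e.injective)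
  have hcM : Nat.card M = 24 := by rw [← Nat.card_congr eM.toEquiv, card_perm]
  have hT : 16 ∣ Nat.card (Matrix.ProjectiveSpecialLinearGroup (Fin 2) F) :=
    Nat.card_congr e.toEquiv ▸ h16
  have hcard := CfsgLib.Suborbit3.two_mul_card_psl hodd
  rcases CfsgLib.PSL2.coatom_odd p hodd h5 hM with h | h | h | h | h | h | h | h
  · exfalso
    rw [hcM] at h
    have h8 : Fintype.card F ≤ 8 := by nlinarith [Nat.sub_add_cancel (show 1 ≤ Fintype.card F by omega)]
    rcases hodd with ⟨a, ha⟩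
    interval_cases hq : Fintype.card F <;> omega
  · obtain ⟨-, k, -, ⟨f⟩⟩ := h
    exact (not_dihedral eM f).elim
  · obtain ⟨-, -, k, -, ⟨f⟩⟩ := h
    exact (not_dihedral eM f).elim
  · exfalso
    obtain ⟨F₀, _, _, hF, ⟨f⟩⟩ := h
    have h1 := CfsgLib.PSL2.card_pgl (F := F₀)
    rw [← Nat.card_congr f.toEquiv, hcM] at h1
    have hq0 := Fintype.one_lt_card (α := F₀)
    have h8 : Fintype.card F₀ ≤ 3 := by
      by_contra hc
      have : 5 * (4 * 3) ≤ (Fintype.card F₀ + 1) * (Fintype.card F₀ * (Fintype.card F₀ - 1)) :=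
        Nat.mul_le_mul (by omega) (Nat.mul_le_mul (by omega) (by omega))
      omega
    have hq3 : Fintype.card F₀ = 3 := by
      interval_cases hq : Fintype.card F₀ <;> omega
    rw [hF, hq3] at hcard
    norm_num [-Nat.card_eq_fintype_card] at hcard
    omega
  · exfalso
    obtain ⟨F₀, _, _, r, hr, hrodd, hF, ⟨f⟩⟩ := h
    have ho0 : Odd (Fintype.card F₀) := (Nat.odd_pow_iff hr.ne_zero).1 (hF ▸ hodd)
    have h1 := CfsgLib.Suborbit3.two_mul_card_psl (F := F₀) ho0
    rw [← Nat.card_congr f.toEquiv, hcM] at h1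
    have hq0 := Fintype.one_lt_card (α := F₀)
    have h8 : Fintype.card F₀ ≤ 3 := by
      by_contra hc
      have : 5 * (4 * 3) ≤ (Fintype.card F₀ + 1) * (Fintype.card F₀ * (Fintype.card F₀ - 1)) :=
        Nat.mul_le_mul (by omega) (Nat.mul_le_mul (by omega) (by omega))
      omega
    interval_cases hq : Fintype.card F₀ <;> omega
  · exfalso
    obtain ⟨-, -, ⟨f⟩⟩ := h
    rw [Nat.card_congr f.toEquiv, CfsgLib.PSL2.card_alt_five] at hcM
    omega
  · exfalso
    obtain ⟨-, -, -, ⟨f⟩⟩ := h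
    rw [Nat.card_congr f.toEquiv, CfsgLib.PSL2.card_alt_four] at hcM
    omega
  · obtain ⟨hq, h8, -⟩ := h
    obtain ⟨f⟩ := CfsgLib.Suborbit3.psl_prime_field hq e
    refine ⟨p, Fact.out, mod_sixteen h8 ?_, ⟨f⟩⟩
    rw [← hq, ← hcard]
    exact Nat.mul_dvd_mul_left 2 hT

end CfsgLib.Suborbit3.Four
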