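import Cfsg.Agent.Lib.Golay.Mathieu
import Cfsg.Agent.S1602
import Mathlib.GroupTheory.Perm.ViaEmbedding

/-!
# `M₁₁` contains `S₅`
-/

set_option autoImplicit false

namespace CfsgLib.Suborbit3.Four

open Cfsg CfsgLib.Golay
open scoped Pointwise

/-- `M₁₁` contains `S₄` inside a subgroup of order 120. -/
theorem exists_perm_four_of_isoM11 {G : Type*} [Group G] (h : Cfsg.Spor.IsoM11 G) :
    ∃ (P : Subgroup G) (ψ : Equiv.Perm (Fin 4) →* G),
      Nat.card P = 120 ∧ Function.Injective ψ ∧ ψ.range ≤ P := by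
  classical
  obtain ⟨e⟩ := h
  have hd := squareDodecad_mem
  have hp := some_zero_mem_squareDodecad
  obtain ⟨f⟩ := sporM11_equiv_dodPtStab hd hp
  have hc : (Finset.univ \ Spor.squareDodecad).card = 12 := by
    rw [Finset.card_sdiff_of_subset (Finset.subset_univ _), card_of_mem_dodecads hd,
      Finset.card_univ, show Fintype.card GolayPt = 24 from rfl]
  obtain ⟨q, hq, q', hq', hne⟩ := Finset.one_lt_card.1
    (show 1 < (Finset.univ \ Spor.squareDodecad).card by omega)
  simp only [Finset.mem_sdiff, Finset.mem_univ, true_and] at hq hq'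
  obtain ⟨e5⟩ := Cfsg.Agent.S1602.result Spor.squareDodecad hd (some 0) q q' hp hq hq' hne
  set A := MulAction.stabilizer M24 Spor.squareDodecad ⊓ MulAction.stabilizer M24 (some 0 : GolayPt)
  set B := A ⊓ MulAction.stabilizer M24 ({q, q'} : Finset GolayPt)
  let φ : A ≃* G := ((e.trans f).trans ((subtypeEquiv _).trans
    (MulEquiv.subgroupCongr (map_subtype_stabilizer_dodPt _ _))).symm).symm
  let θ : Equiv.Perm (Fin 5) →* G :=
    φ.toMonoidHom.comp ((Subgroup.inclusion (inf_le_left : B ≤ A)).comp e5.symm.toMonoidHom)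
  have hθ : Function.Injective θ :=
    φ.injective.comp ((Subgroup.inclusion_injective (inf_le_left : B ≤ A)).comp e5.symm.injective)
  refine ⟨θ.range, θ.comp (Equiv.Perm.viaEmbeddingHom Fin.castSuccEmb), ?_,
    hθ.comp (Equiv.Perm.viaEmbeddingHom_injective _), ?_⟩
  · rw [← Nat.card_congr (MonoidHom.ofInjective hθ).toEquiv, Nat.card_perm, Nat.card_fin]
    rfl
  · rintro _ ⟨a, rfl⟩
    exact ⟨_, rfl⟩

end CfsgLib.Suborbit3.Four
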