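import Cfsg.Agent.Lib.Suborbit3.Four.Local
import Cfsg.Agent.Lib.Suborbit3.Four.M11Sub

/-!
# `M₁₁` has no maximal subgroup `S₄`
-/

set_option autoImplicit false
set_option linter.style.haveILetI false
set_option linter.unusedSectionVars false

namespace CfsgLib.Suborbit3.Four

open Subgroup Equiv CfsgLib.TwoGroups.SD

theorem isKleinFour_of {K : Type*} [Group K] {W : Subgroup K} (hc : Nat.card W = 4)
    (h2 : ∀ x ∈ W, x * x = 1) : IsKleinFour W := by
  haveI : Finite W := Nat.finite_of_card_ne_zero (by omega)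
  haveI : Nontrivial W := Finite.one_lt_card_iff_nontrivial.mp (by omega)
  refine ⟨hc, Monoid.exponent_eq_prime_iff Nat.prime_two |>.mpr fun x hx => ?_⟩
  exact orderOf_eq_prime (by rw [pow_two]; exact Subtype.ext (h2 x x.2)) hx

theorem V4_sq {a : Perm (Fin 4)} (h : a ∈ V4) : a * a = 1 := by
  rcases V4_cases a (mem_V4.1 h).1 (mem_V4.1 h).2 with rfl | rfl | rfl | rfl <;> decide +kernel

variable {G : Type*} [Group G] [Finite G]

theorem Local.false_of_M11 (E : Local G) (hmax : IsCoatom E.H)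
    (hN : normalizer (E.V : Set G) = E.H) (h16 : 16 ∣ Nat.card G) {S : Sylow 2 G}
    (hS : E.L ≤ (S : Subgroup G)) {r : ℕ} {x y : (S : Subgroup G)}
    (h : SD (S : Subgroup G) r x y) (hM : Cfsg.Spor.IsoM11 G) : False := by
  haveI : Fact (Nat.Prime 2) := ⟨Nat.prime_two⟩
  obtain ⟨P, ψ, hP, hψ, hle⟩ := exists_perm_four_of_isoM11 hM
  obtain ⟨S', hS'⟩ := (isPGroup_D8.map ψ).exists_le_sylow
  obtain ⟨c, hc⟩ := MulAction.exists_smul_eq G S' S
  let ψ₁ : Perm (Fin 4) →* G := (MulAut.conj c).toMonoidHom.comp ψ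
  have hψ₁ : Function.Injective ψ₁ := (MulAut.conj c).injective.comp hψ
  have hWS : V4.map ψ₁ ≤ (S : Subgroup G) := by
    rw [← hc, Sylow.coe_subgroup_smul, ← map_map]
    exact map_mono ((map_mono V4_le).trans hS')
  have hVS : E.V ≤ (S : Subgroup G) := (map_mono V4_le).trans hS
  have k1 : IsKleinFour ((V4.map ψ₁).subgroupOf (S : Subgroup G)) := by
    refine isKleinFour_of ?_ ?_
    · rw [Nat.card_congr (subgroupOfEquivOfLe hWS).toEquiv, card_map_of_injective hψ₁, card_V4]
    · rintro w ⟨a, ha, e⟩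
      refine Subtype.ext ?_
      rw [Subgroup.coe_mul, show (w : G) = ψ₁ a from e.symm, ← map_mul, V4_sq ha, map_one]
      rfl
  have k2 : IsKleinFour (E.V.subgroupOf (S : Subgroup G)) := by
    refine isKleinFour_of ?_ ?_
    · rw [Nat.card_congr (subgroupOfEquivOfLe hVS).toEquiv, E.card_V]
    · rintro w ⟨a, ha, e⟩
      refine Subtype.ext ?_
      rw [Subgroup.coe_mul, show (w : G) = E.j a from e.symm, ← map_mul, V4_sq ha, map_one]
      rfl
  obtain ⟨s, hs⟩ := klein_conj h k1 k2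
  let ψ₂ : Perm (Fin 4) →* G := (MulAut.conj (s : G)).toMonoidHom.comp ψ₁
  have hψ₂ : Function.Injective ψ₂ := (MulAut.conj (s : G)).injective.comp hψ₁
  have hV : V4.map ψ₂ = E.V := by
    rw [← map_map]
    have e := congrArg (Subgroup.map (S : Subgroup G).subtype) hs
    rw [map_map, show (S : Subgroup G).subtype.comp (MulAut.conj s).toMonoidHom =
      (MulAut.conj (s : G)).toMonoidHom.comp (S : Subgroup G).subtype from rfl, ← map_map,
      map_subgroupOf_eq_of_le hWS, map_subgroupOf_eq_of_le hVS] at e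
    exact e
  have hrange : ψ₂.range = E.H := by
    refine eq_of_le_of_card_ge ?_ (le_of_eq ?_)
    · rintro _ ⟨a, rfl⟩
      rw [← hN, ← hV]
      refine mem_normalizer_iff.2 fun w => ⟨?_, ?_⟩
      · rintro ⟨b, hb, rfl⟩
        exact ⟨a * b * a⁻¹, Normal.conj_mem inferInstance b hb a, by simp [map_mul, map_inv]⟩
      · rintro ⟨b, hb, e⟩
        exact ⟨a⁻¹ * b * a⁻¹⁻¹, Normal.conj_mem inferInstance b hb a⁻¹, by
          rw [map_mul, map_mul, map_inv, map_inv, map_inv, e]; group⟩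
    · rw [E.card_H, ← Nat.card_congr (MonoidHom.ofInjective hψ₂).toEquiv, card_perm]
  let P₂ : Subgroup G := P.map ((MulAut.conj (s : G)).toMonoidHom.comp (MulAut.conj c).toMonoidHom)
  have hP₂ : Nat.card P₂ = 120 := (card_map_of_injective
    ((MulAut.conj (s : G)).injective.comp (MulAut.conj c).injective)).trans hP
  have hle₂ : E.H ≤ P₂ := by
    rw [← hrange]
    rintro _ ⟨a, rfl⟩
    exact ⟨ψ a, hle ⟨a, rfl⟩, rfl⟩
  have hlt : E.H < P₂ := lt_of_le_of_ne hle₂ fun e => by
    have h24 := E.card_H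
    rw [e, hP₂] at h24
    omega
  rw [hmax.2 _ hlt, card_top] at hP₂
  rw [hP₂] at h16
  omega

end CfsgLib.Suborbit3.Four
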