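import Cfsg.Agent.Lib.Suborbit3.Four.Case
import Cfsg.Agent.Lib.Suborbit3.Four.Dihedral
import Cfsg.Agent.Lib.Suborbit3.Four.M11Exclude

/-!
# Stabilizer `S₄`
-/

set_option autoImplicit false
set_option linter.style.haveILetI false

namespace CfsgLib.Suborbit3

open Subgroup Equiv

universe u

theorem Hyp.case_four {G : Type u} [Group G] [Finite G] {H L : Subgroup G} {g : G}
    (hGW : CfsgLib.GWCons.RankOneCover.DihedralClassification.{u}) (h : Hyp H L g)
    (J : Model H (Perm (Fin 4))) : Concl G := by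
  obtain ⟨E, hEH, hEL⟩ := h.exists_local J
  haveI := h.four_simple hEH hEL
  have h16 := h.sixteen_dvd hEH hEL
  have hmax : IsCoatom E.H := hEH ▸ h.data.hmax
  obtain ⟨S, hS⟩ := E.exists_sylow
  rcases E.dihedral_or_sd hS with ⟨n, hn, ⟨e⟩⟩ | ⟨r, x, y, hsd⟩
  · have hne : ∃ a b : G, a * b ≠ b * a :=
      ⟨E.j Four.vP, E.j Four.sP, fun e => absurd (E.inj (by rw [map_mul, map_mul]; exact e))
        (by decide +kernel : Four.vP * Four.sP ≠ Four.sP * Four.vP)⟩
    obtain ⟨F, _, _, hodd, h3, ⟨f⟩⟩ := Four.exists_psl hGW hne h16 S (by omega) e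
    exact Or.inr (Or.inr (Or.inr (Or.inr (Or.inr (Or.inl
      (Four.psl_of_coatom hmax (MonoidHom.ofInjective E.inj) h16 hodd h3 f))))))
  · rcases E.sd_case hS hsd with hp | hM
    · exact Or.inr (Or.inr (Or.inr (Or.inr (Or.inr (Or.inr (Or.inl hp))))))
    · exact (E.false_of_M11 hmax ((h.normalizer_V hEH).trans hEH.symm) h16 hS hsd hM).elim

end CfsgLib.Suborbit3
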