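import Mathlib.GroupTheory.Sylow
import Mathlib.GroupTheory.Perm.Sign
import Mathlib.GroupTheory.Perm.Fin
import Mathlib.Tactic

/-!
# Facts on the symmetric group of degree four
-/

set_option autoImplicit false

namespace CfsgLib.Suborbit3.Four

open Equiv

/-- `(02)(13)`. -/
def uP : Perm (Fin 4) := swap 0 2 * swap 1 3

/-- `(01)(23)`. -/
def vP : Perm (Fin 4) := swap 0 1 * swap 2 3

/-- `(02)`. -/
def sP : Perm (Fin 4) := swap 0 2

/-- The dihedral group of order eight. -/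
def D8 : Subgroup (Perm (Fin 4)) := Subgroup.centralizer {uP}

/-- The normal four-group, as the centralizer of two of its elements. -/
def V4 : Subgroup (Perm (Fin 4)) := Subgroup.centralizer {uP, vP}

theorem mem_D8 {a : Perm (Fin 4)} : a ∈ D8 ↔ a * uP = uP * a :=
  Subgroup.mem_centralizer_singleton_iff

theorem mem_V4 {a : Perm (Fin 4)} : a ∈ V4 ↔ a * uP = uP * a ∧ a * vP = vP * a := by
  simp [V4, Subgroup.mem_centralizer_iff, eq_comm]

theorem card_D8 : Nat.card D8 = 8 := by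
  rw [show Nat.card D8 = Nat.card {a : Perm (Fin 4) // a * uP = uP * a} from
    Nat.card_congr (Equiv.subtypeEquivRight fun _ => mem_D8), Nat.card_eq_fintype_card]
  decide +kernel

theorem card_V4 : Nat.card V4 = 4 := by
  rw [show Nat.card V4 = Nat.card {a : Perm (Fin 4) // a * uP = uP * a ∧ a * vP = vP * a} from
    Nat.card_congr (Equiv.subtypeEquivRight fun _ => mem_V4), Nat.card_eq_fintype_card]
  decide +kernel

theorem card_perm : Nat.card (Perm (Fin 4)) = 24 := by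
  rw [Nat.card_eq_fintype_card]
  decide +kernel

theorem isPGroup_D8 : IsPGroup 2 D8 := IsPGroup.of_card (n := 3) (by rw [card_D8]; norm_num)

theorem uP_mem : uP ∈ D8 := mem_D8.2 rfl

theorem vP_mem : vP ∈ D8 := mem_D8.2 (by decide +kernel)

theorem sP_mem : sP ∈ D8 := mem_D8.2 (by decide +kernel)

theorem V4_le : V4 ≤ D8 := fun _ h => mem_D8.2 (mem_V4.1 h).1

theorem V4_cases : ∀ a : Perm (Fin 4), a * uP = uP * a → a * vP = vP * a →
    a = 1 ∨ a = uP ∨ a = vP ∨ a = uP * vP := by decide +kernel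

theorem center_D8 : ∀ a : Perm (Fin 4), a * uP = uP * a → a * vP = vP * a → a * sP = sP * a →
    a = 1 ∨ a = uP := by decide +kernel

theorem uP_facts : uP * uP = 1 ∧ uP ≠ 1 ∧ vP * vP = 1 ∧ vP ≠ 1 ∧ uP ≠ vP ∧
    uP * vP = vP * uP ∧ sP * sP = 1 ∧ uP * sP = sP * uP := by decide +kernel

theorem V4_conj : ∀ a b : Perm (Fin 4), a * uP = uP * a → a * vP = vP * a →
    (b * a * b⁻¹) * uP = uP * (b * a * b⁻¹) ∧ (b * a * b⁻¹) * vP = vP * (b * a * b⁻¹) := by
  decide +kernel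

instance : V4.Normal := ⟨fun a ha b =>
  mem_V4.2 (V4_conj a b (mem_V4.1 ha).1 (mem_V4.1 ha).2)⟩

theorem no_order_twelve : ∀ a : Perm (Fin 4), a * a * a = 1 ∨ a * a * (a * a) = 1 := by
  decide +kernel

end CfsgLib.Suborbit3.Four

namespace CfsgLib.Suborbit3.Four

open Equiv

theorem D8_inv_cases : ∀ a : Perm (Fin 4), a * uP = uP * a → a * a = 1 → a ≠ 1 → a ≠ uP →
    a = vP ∨ a = uP * vP ∨ a = sP ∨ a = uP * sP := by decide +kernel

theorem uP_conj_vP : ∃ a : Perm (Fin 4), a * uP * a⁻¹ = vP := by decide +kernel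

theorem eq_top_of_sP {N : Subgroup (Perm (Fin 4))} [N.Normal] (h : sP ∈ N) : N = ⊤ := by
  refine top_unique ((Perm.closure_isSwap (α := Fin 4)).ge.trans ((Subgroup.closure_le N).2 ?_))
  rintro σ ⟨x, y, hxy, rfl⟩
  obtain ⟨c, hc⟩ := isConj_iff.1 (Perm.isConj_swap (show (0 : Fin 4) ≠ 2 by decide) hxy)
  rw [SetLike.mem_coe, ← hc]
  exact Subgroup.Normal.conj_mem inferInstance _ h c

theorem exists_sylow_conj {K : Subgroup (Perm (Fin 4))} (hK : Nat.card K = 8) :
    ∃ a : Perm (Fin 4), D8.map (MulAut.conj a).toMonoidHom = K := by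
  haveI : Fact (Nat.Prime 2) := ⟨Nat.prime_two⟩
  obtain ⟨P, hP⟩ := (IsPGroup.of_card (n := 3) (by rw [hK]; norm_num) : IsPGroup 2 K).exists_le_sylow
  obtain ⟨Q, hQ⟩ := isPGroup_D8.exists_le_sylow
  have hc : ∀ R : Sylow 2 (Perm (Fin 4)), Nat.card (R : Subgroup (Perm (Fin 4))) ≤ 8 := fun R => by
    obtain ⟨k, hk⟩ := IsPGroup.iff_card.1 R.isPGroup'
    have hd := Subgroup.card_subgroup_dvd_card (R : Subgroup (Perm (Fin 4)))
    rw [card_perm, hk] at hd
    have hk' := Nat.le_of_dvd (by norm_num) hd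
    rw [hk]
    rcases lt_or_ge k 4 with h4 | h4
    · exact Nat.pow_le_pow_right two_pos (show k ≤ 3 by omega)
    · have h16 : 2 ^ 4 ∣ 24 := (pow_dvd_pow 2 h4).trans hd
      norm_num at h16
  have eP := Subgroup.eq_of_le_of_card_ge hP (hK ▸ hc P)
  have eQ := Subgroup.eq_of_le_of_card_ge hQ (card_D8 ▸ hc Q)
  obtain ⟨a, ha⟩ := MulAction.exists_smul_eq (Perm (Fin 4)) Q P
  refine ⟨a, ?_⟩
  rw [eP, eQ, ← ha, Sylow.coe_subgroup_smul]
  rfl

end CfsgLib.Suborbit3.Four
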